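import Groth.Agent.Lib.DCompact9.Seq
import Groth.Agent.Lib.KInj.Derived
import Groth.Agent.Lib.RHom.Compact
import Groth.Agent.Lib.DMod.Amplitude
import Groth.Prelude.Def_DRing2
import Mathlib.Algebra.Category.ModuleCat.AB

/-! Coproducts in `D(R)` and maps out of objects commuting with countable sums. -/

set_option autoImplicit false
set_option linter.unusedSectionVars false
set_option linter.style.haveILetI false
set_option backward.isDefEq.respectTransparency false

universe u t

open CategoryTheory CategoryTheory.Limits CategoryTheory.Pretriangulated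

attribute [local instance] HasDerivedCategory.standard

namespace Groth.Agent.DCompact9

open DPush

variable {R : Type u} [CommRing R]

theorem hasColimitsOfShape_small {T : Type t} {I : Type u} (e : T ≃ I) :
    HasColimitsOfShape (Discrete T) (Dual.D R) :=
  haveI := KInjLib.hasCoproducts_derivedCategory (A := ModuleCat.{u} R) I
  hasColimitsOfShape_of_equivalence (Discrete.equivalence e.symm)

theorem hasCoproduct_small {T : Type t} {I : Type u} (e : T ≃ I) (X : T → Dual.D R) : HasCoproduct X :=
  haveI := hasColimitsOfShape_small (R := R) e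
  inferInstance

theorem preservesColimitsOfShape_Q {T : Type t} {I : Type u} (e : T ≃ I) :
    PreservesColimitsOfShape (Discrete T) (DerivedCategory.Q (C := ModuleCat.{u} R)) := by
  haveI : ∀ Z : I → DRing.Cx R,
      PreservesColimit (Discrete.functor Z) (DerivedCategory.Q (C := ModuleCat.{u} R)) := fun Z =>
    preservesColimit_of_preserves_colimit_cocone (coproductIsCoproduct Z)
      ((isColimitMapCoconeCofanMkEquiv _ Z (Sigma.ι Z)).symm (KInjLib.isColimitSigma Z))
  haveI : PreservesColimitsOfShape (Discrete I) (DerivedCategory.Q (C := ModuleCat.{u} R)) :=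
    ⟨fun {K} => preservesColimit_of_iso_diagram _ Discrete.natIsoFunctor.symm⟩
  exact preservesColimitsOfShape_of_equiv (Discrete.equivalence e.symm) _

/-- Every map out of `K` into a countable sum has finite support. -/
def CountFin (K : Dual.D R) : Prop :=
  ∀ (X : ℕ → Dual.D R) [HasCoproduct X] (f : K ⟶ ∐ X), FinFac X f

theorem countFin_of_bijective {K : Dual.D R}
    (hK : ∀ (E : ℕ → Dual.D R) [HasCoproduct fun i : ULift.{u + 1} ℕ => E i.down],
      Function.Bijective (CohDer.homSumToHomCoprod K (fun i : ULift.{u + 1} ℕ => E i.down))) :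
    CountFin K := fun X _ f => by
  haveI := hasCoproduct_small (R := R) (Equiv.ulift.trans Equiv.ulift.symm)
    (fun i : ULift.{u + 1} ℕ => X i.down)
  haveI : HasCoproduct fun i : ULift.{u + 1} ℕ => X (Equiv.ulift i) :=
    hasCoproduct_small (R := R) (Equiv.ulift.trans Equiv.ulift.symm) _
  exact finFac_of_surjective X Equiv.ulift (hK X).2 f

theorem countFin_shift {K : Dual.D R} (hK : CountFin K) (n : ℤ) : CountFin (K⟦n⟧) := fun X _ f => by
  haveI := hasColimitsOfShape_small (R := R) (Equiv.ulift.{u} (α := ℕ)).symm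
  refine finFac_of_equivalence (shiftFunctor (Dual.D R) (-n)) f fun g => ?_
  let e := (shiftFunctorCompIsoId (Dual.D R) n (-n) (add_neg_cancel n)).app K
  obtain ⟨s, hs⟩ := hK _ (e.inv ≫ g)
  exact ⟨s, by rwa [Category.assoc, cancel_epi] at hs⟩

theorem hom_termwiseColimit {K : Dual.D R} (hK : CountFin K) (L : ℕ ⥤ DRing.Cx R) (c : Cocone L)
    (hc : IsColimit c) :
    (∀ x : K ⟶ DRing.toD c.pt, ∃ (n : ℕ) (y : K ⟶ DRing.toD (L.obj n)),
        y ≫ DerivedCategory.Q.map (c.ι.app n) = x) ∧
      (∀ (n : ℕ) (y : K ⟶ DRing.toD (L.obj n)), y ≫ DerivedCategory.Q.map (c.ι.app n) = 0 →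
        ∃ (m : ℕ) (h : n ≤ m), y ≫ DerivedCategory.Q.map (L.map (homOfLE h)) = 0) := by
  haveI := hasColimitsOfShape_small (R := R) (Equiv.ulift.{u} (α := ℕ)).symm
  haveI := preservesColimitsOfShape_Q (R := R) (Equiv.ulift.{u} (α := ℕ)).symm
  haveI : HasCoproduct (L ⋙ DerivedCategory.Q).obj := inferInstance
  have hL := Hocolim29.isHocolim_colimit L
  obtain ⟨h1, h2⟩ := hom_hocolim (L ⋙ DerivedCategory.Q) hL K (hK _) (countFin_shift hK (-1) _)
  let e : colimit L ≅ c.pt := (colimit.isColimit L).coconePointUniqueUpToIso hc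
  have he : ∀ n, colimit.ι L n ≫ e.hom = c.ι.app n :=
    IsColimit.comp_coconePointUniqueUpToIso_hom (colimit.isColimit L) hc
  refine ⟨fun x => ?_, fun n y hy => h2 n y ?_⟩
  · obtain ⟨n, y, hy⟩ := h1 (x ≫ DerivedCategory.Q.map e.inv)
    refine ⟨n, y, ?_⟩
    rw [← he, Functor.map_comp]
    refine (Category.assoc _ _ _).symm.trans ?_
    rw [show y ≫ DerivedCategory.Q.map (colimit.ι L n) = x ≫ DerivedCategory.Q.map e.inv from hy,
      Category.assoc, ← Functor.map_comp, e.inv_hom_id, CategoryTheory.Functor.map_id, Category.comp_id]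
  · rw [← cancel_mono (DerivedCategory.Q.map e.hom), zero_comp, Category.assoc]
    refine Eq.trans (congrArg (y ≫ ·) ?_) hy
    exact ((DerivedCategory.Q).map_comp _ _).symm.trans (congrArg _ (he n))

end Groth.Agent.DCompact9
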