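import Groth.Agent.Lib.DCompact9.Ring
import Groth.Agent.Lib.DBaseChange.ResPerfect
import Groth.Agent.Lib.DMod.PCModule
import Groth.Agent.S7010
import Mathlib.LinearAlgebra.Basis.Basic
import Mathlib.Algebra.Category.ModuleCat.FilteredColimits

/-! Perfect objects of `D(R)` and objects commuting with small sums. -/

set_option autoImplicit false
set_option linter.unusedSectionVars false
set_option linter.style.haveILetI false
set_option backward.isDefEq.respectTransparency false
set_option backward.isDefEq.respectTransparency.types false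

universe u t

open CategoryTheory CategoryTheory.Limits CategoryTheory.Pretriangulated

attribute [local instance] HasDerivedCategory.standard

namespace Groth.Agent.DCompact9

open DPush DMod DBaseChange
open scoped Classical

variable {R : Type u} [CommRing R]

/-- Every map out of `K` into a small sum has finite support. -/
def SmallFin (K : Dual.D R) : Prop :=
  ∀ (I : Type u) (X : I → Dual.D R) [HasCoproduct X] (f : K ⟶ ∐ X), FinFac X f

theorem smallFin_of_iso {K L : Dual.D R} (e : K ≅ L) (h : SmallFin K) : SmallFin L :=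
  fun I X _ f => by
    obtain ⟨s, hs⟩ := h I X (e.hom ≫ f)
    exact ⟨s, by rwa [Category.assoc, cancel_epi] at hs⟩

theorem smallFin_shift {K : Dual.D R} (hK : SmallFin K) (n : ℤ) : SmallFin (K⟦n⟧) := fun I X _ f => by
  haveI := hasColimitsOfShape_small (R := R) (Equiv.refl I)
  refine finFac_of_equivalence (shiftFunctor (Dual.D R) (-n)) f fun g => ?_
  let e := (shiftFunctorCompIsoId (Dual.D R) n (-n) (add_neg_cancel n)).app K
  obtain ⟨s, hs⟩ := hK _ _ (e.inv ≫ g)
  exact ⟨s, by rwa [Category.assoc, cancel_epi] at hs⟩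

theorem smallFin_triangle₂ (T : Triangle (Dual.D R)) (hT : T ∈ distTriang _) (h₁ : SmallFin T.obj₁)
    (h₃ : SmallFin T.obj₃) : SmallFin T.obj₂ := fun I X _ f => by
  obtain ⟨s, hs⟩ := h₁ I X (T.mor₁ ≫ f)
  obtain ⟨g, hg⟩ := Triangle.yoneda_exact₂ _ hT (f - f ≫ finProj X s) (by
    rw [Preadditive.comp_sub, ← Category.assoc, hs, sub_self])
  obtain ⟨t, ht⟩ := h₃ I X g
  have h := FinFac.add X (finFac_finProj X f s) (finFac_finProj X (T.mor₂ ≫ g) t)
  rwa [Category.assoc, ht, ← hg, add_sub_cancel] at h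

theorem smallFin_retract {K L : Dual.D R} (i : L ⟶ K) (p : K ⟶ L) (hip : i ≫ p = 𝟙 L)
    (h : SmallFin K) : SmallFin L := fun I X _ f => by
  obtain ⟨s, hs⟩ := h I X (p ≫ f)
  refine ⟨s, ?_⟩
  have h1 := congrArg (i ≫ ·) hs
  simp only [← Category.assoc, hip, Category.id_comp] at h1
  exact h1

theorem exists_finset_coproduct {I : Type u} (M : I → ModuleCat.{u} R) (x : (∐ M : ModuleCat.{u} R)) :
    ∃ s : Finset I, x ∈ ⨆ i ∈ s, LinearMap.range (Sigma.ι M i).hom := by
  have htop : ⨆ i, LinearMap.range (Sigma.ι M i).hom = ⊤ := by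
    by_contra hne
    let N : Submodule R (∐ M : ModuleCat.{u} R) := ⨆ i, LinearMap.range (Sigma.ι M i).hom
    have h0 : ModuleCat.ofHom N.mkQ = 0 := Sigma.hom_ext _ _ fun i => by
      rw [comp_zero]
      ext y
      exact (Submodule.Quotient.mk_eq_zero N).2 (Submodule.mem_iSup_of_mem i ⟨y, rfl⟩)
    refine hne (eq_top_iff.2 fun y _ => ?_)
    exact (Submodule.Quotient.mk_eq_zero N).1 (ConcreteCategory.congr_hom h0 y)
  exact (Submodule.mem_iSup_iff_exists_finset).1 (htop ▸ Submodule.mem_top)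

theorem sigma_finProj_fix {I : Type u} (M : I → ModuleCat.{u} R) (s : Finset I)
    (x : (∐ M : ModuleCat.{u} R)) (hx : x ∈ ⨆ i ∈ s, LinearMap.range (Sigma.ι M i).hom) :
    finProj M s x = x := by
  have : (⨆ i ∈ s, LinearMap.range (Sigma.ι M i).hom) ≤ LinearMap.eqLocus (finProj M s).hom LinearMap.id := by
    refine iSup₂_le fun i hi => ?_
    rintro _ ⟨y, rfl⟩
    have h := ConcreteCategory.congr_hom (ι_finProj M s i) y
    rw [if_pos hi] at h
    exact h
  exact this hx

theorem smallFin_ring : SmallFin (Dual.inD R R) := fun I X _ f => by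
  haveI := hasColimitsOfShape_small (R := R) (Equiv.refl I)
  haveI := preservesColimitsOfShape_Q (R := R) (Equiv.refl I)
  let F : I → DRing.Cx R := fun a => DerivedCategory.Q.objPreimage (X a)
  let e : ∀ a, DRing.toD (F a) ≅ X a := fun a => DerivedCategory.Q.objObjPreimageIso (X a)
  suffices h : ∀ g : Dual.inD R R ⟶ ∐ fun a => DRing.toD (F a), FinFac _ g by
    have h' := (h (f ≫ Limits.Sigma.map fun a => (e a).inv)).map fun a => (e a).hom
    have h1 : (Limits.Sigma.map fun a => (e a).inv) ≫ (Limits.Sigma.map fun a => (e a).hom) = 𝟙 (∐ X) :=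
      Sigma.hom_ext _ _ fun a => by simp
    rwa [Category.assoc, h1, Category.comp_id] at h'
  intro g
  let S : DRing.Cx R := (HomologicalComplex.single (ModuleCat.{u} R) (ComplexShape.up ℤ) 0).obj (ModuleCat.of R R)
  haveI : Module.Projective R (ModuleCat.of R R) := inferInstanceAs (Module.Projective R R)
  haveI : S.IsStrictlyLE 0 := inferInstanceAs
    (CochainComplex.IsStrictlyLE ((CochainComplex.singleFunctor (ModuleCat.{u} R) 0).obj _) 0)
  haveI : S.IsKProjective := isKProjective 0 fun i => by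
    by_cases hi : i = 0
    · subst hi
      exact Module.Projective.of_equiv
        (HomologicalComplex.singleObjXSelf (ComplexShape.up ℤ) (0 : ℤ) (ModuleCat.of R R)).symm.toLinearEquiv
    · have := ModuleCat.subsingleton_of_isZero (isZero_single_X (n := 0) hi (ModuleCat.of R R))
      exact Module.Projective.of_free
  let eS : Dual.inD R R ≅ DRing.toD S :=
    (DerivedCategory.singleFunctorIsoCompQ (ModuleCat.{u} R) 0).app (ModuleCat.of R R)
  let comp := sigmaComparison DerivedCategory.Q F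
  obtain ⟨φ, hφ⟩ := exists_map_eq (P := S) (L := ∐ F) (eS.inv ≫ g ≫ comp)
  let ev := HomologicalComplex.eval (ModuleCat.{u} R) (ComplexShape.up ℤ) (0 : ℤ)
  haveI : IsIso (sigmaComparison ev F) := inferInstance
  let o : ModuleCat.of R R ⟶ ∐ fun a => ev.obj (F a) :=
    (HomologicalComplex.singleObjXSelf (ComplexShape.up ℤ) (0 : ℤ) (ModuleCat.of R R)).inv ≫
      φ.f 0 ≫ inv (sigmaComparison ev F)
  obtain ⟨s, hs⟩ := exists_finset_coproduct (fun a => ev.obj (F a)) (o (1 : R))
  have ho : o ≫ finProj _ s = o := ModuleCat.hom_ext (LinearMap.ext_ring (sigma_finProj_fix _ s _ hs))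
  have hφs : φ ≫ finProj F s = φ := by
    refine HomologicalComplex.from_single_hom_ext ?_
    rw [HomologicalComplex.comp_f, ← cancel_epi
      (HomologicalComplex.singleObjXSelf (ComplexShape.up ℤ) (0 : ℤ) (ModuleCat.of R R)).inv,
      ← cancel_mono (inv (sigmaComparison ev F))]
    refine Eq.trans ?_ ((ho.trans rfl : _ = o).trans (Category.assoc _ _ _).symm)
    simp only [o, Category.assoc]
    refine congrArg (_ ≫ ·) (congrArg (φ.f 0 ≫ ·) ?_)
    rw [IsIso.comp_inv_eq, Category.assoc, finProj_comparison, IsIso.inv_hom_id_assoc]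
    rfl
  refine ⟨s, ?_⟩
  rw [← cancel_epi eS.inv, ← cancel_mono comp]
  simp only [Category.assoc]
  rw [finProj_comparison, ← hφ]
  simp only [← Category.assoc] at hφ ⊢
  rw [← hφ, ← Functor.map_comp, hφs]

theorem smallFin_of_isPerfect {K : Dual.D R} (hK : DRing.IsPerfect R K) : SmallFin K := by
  haveI : ObjectProperty.IsClosedUnderIsomorphisms (fun K : Dual.D R => SmallFin K) :=
    ⟨fun e h => smallFin_of_iso e h⟩
  exact S7010.result R (fun K => SmallFin K) smallFin_ring (fun K n h => smallFin_shift h n)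
    smallFin_triangle₂ (fun X Y _ h => smallFin_retract biprod.inl biprod.fst biprod.inl_fst h) K hK

/-! ### Unions of subcomplexes -/

section Union

variable (C : DRing.Cx R) (S : ℕ → ∀ i, Submodule R (C.X i))
  (hS : ∀ n i, ∀ x ∈ S n i, C.d i (i + 1) x ∈ S n (i + 1)) (hmono : ∀ i, Monotone fun n => S n i)

/-- The increasing system of subcomplexes. -/
noncomputable def subSystem : ℕ ⥤ DRing.Cx R where
  obj n := subCx C (S n) (hS n)
  map {n m} h :=
    { f := fun i => ModuleCat.ofHom (Submodule.inclusion (hmono i (leOfHom h)))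
      comm' := fun i j hij => by
        obtain rfl : i + 1 = j := hij
        simp only [subCx, CochainComplex.of_d]
        rfl }
  map_id n := by ext i x; rfl
  map_comp f g := by ext i x; rfl

/-- The cocone given by the inclusions. -/
noncomputable def subCocone : Cocone (subSystem C S hS hmono) where
  pt := C
  ι :=
    { app := fun n => subι C (S n) (hS n)
      naturality := fun n m h => by ext i x; rfl }

/-- An exhaustive system of subcomplexes has the complex as colimit. -/
theorem isColimit_subCocone (hex : ∀ i x, ∃ n, x ∈ S n i) :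
    Nonempty (IsColimit (subCocone C S hS hmono)) := by
  refine ⟨HomologicalComplex.isColimitOfEval _ _ fun i => ?_⟩
  haveI : PreservesFilteredColimitsOfSize.{0, 0} (forget (ModuleCat.{u} R)) :=
    preservesFilteredColimitsOfSize_shrink.{0, u, 0, u} _
  haveI : ReflectsColimit (subSystem C S hS hmono ⋙ HomologicalComplex.eval _ _ i)
      (forget (ModuleCat.{u} R)) := reflectsColimit_of_reflectsIsomorphisms _ _
  refine isColimitOfReflects (forget (ModuleCat.{u} R)) ?_
  refine Types.FilteredColimit.isColimitOf' _ _ (fun x => ?_) fun n a b hab => ?_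
  · obtain ⟨n, hn⟩ := hex i x
    exact ⟨n, (⟨x, hn⟩ : ↥(S n i)), rfl⟩
  · exact ⟨n, 𝟙 n, congrArg _ (Submodule.injective_subtype (S n i) hab)⟩

end Union

/-! ### Compact objects are perfect -/

/-- Maps out of objects with finite support factor through perfect objects. -/
def Factors (L : Dual.D R) : Prop :=
  ∀ (X : Dual.D R), SmallFin X → ∀ f : X ⟶ L,
    ∃ (P : Dual.D R) (a : X ⟶ P) (b : P ⟶ L), DRing.IsPerfect R P ∧ a ≫ b = f

theorem factors_of_iso {K L : Dual.D R} (e : K ≅ L) (h : Factors K) : Factors L := fun X hX f => by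
  obtain ⟨P, a, b, hP, hab⟩ := h X hX (f ≫ e.inv)
  exact ⟨P, a, b ≫ e.hom, hP, by rw [reassoc_of% hab, e.inv_hom_id, Category.comp_id]⟩

theorem factors_triangle₂ (T : Triangle (Dual.D R)) (hT : T ∈ distTriang _) (h₁ : Factors T.obj₁)
    (h₃ : Factors T.obj₃) : Factors T.obj₂ := fun X hX f => by
  obtain ⟨P₃, a, b, hP₃, hab⟩ := h₃ X hX (f ≫ T.mor₂)
  obtain ⟨X', u, δ, hX'⟩ := distinguished_cocone_triangle₁ a
  obtain ⟨(f₁ : X' ⟶ T.obj₁), (hf₁ : u ≫ f = f₁ ≫ T.mor₁), hδ⟩ := complete_distinguished_triangle_morphism₁ (Triangle.mk u a δ) T hX' hT f b hab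
  have hX'f : SmallFin X' := smallFin_triangle₂ _ (inv_rot_of_distTriang _ hX')
    (smallFin_shift (smallFin_of_isPerfect hP₃) (-1)) hX
  obtain ⟨P₁, a₁, b₁, hP₁, hab₁⟩ := h₁ X' hX'f f₁
  obtain ⟨Y, i, q, hY⟩ := distinguished_cocone_triangle₂ (δ ≫ a₁⟦(1 : ℤ)⟧')
  obtain ⟨(k : X ⟶ Y), (hk₁ : u ≫ k = a₁ ≫ i), (hk₂ : a ≫ 𝟙 P₃ = k ≫ q)⟩ := complete_distinguished_triangle_morphism₂ (Triangle.mk u a δ)
    (Triangle.mk i q (δ ≫ a₁⟦(1 : ℤ)⟧')) hX' hY a₁ (𝟙 _) (Category.id_comp _).symm
  obtain ⟨(m : Y ⟶ T.obj₂), (hm₁ : i ≫ m = b₁ ≫ T.mor₁), (hm₂ : q ≫ b = m ≫ T.mor₂)⟩ := complete_distinguished_triangle_morphism₂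
    (Triangle.mk i q (δ ≫ a₁⟦(1 : ℤ)⟧')) T hY hT b₁ b (by
      rw [← hab₁, Functor.map_comp] at hδ
      exact (Category.assoc _ _ _).trans hδ)
  obtain ⟨(w : P₃ ⟶ T.obj₂), (hw : f - k ≫ m = a ≫ w)⟩ := Triangle.yoneda_exact₂ _ hX' (f - k ≫ m) (by
    change u ≫ (f - k ≫ m) = 0
    rw [Preadditive.comp_sub, hf₁, reassoc_of% hk₁, hm₁, ← hab₁, Category.assoc, sub_self])
  refine ⟨Y, k, m + q ≫ w, isPerfect_triangle₂ _ hY hP₁ hP₃, ?_⟩
  rw [Preadditive.comp_add, ← Category.assoc k q, ← hk₂, Category.comp_id, ← hw, add_sub_cancel]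

theorem factors_isZero {L : Dual.D R} (h : IsZero L) : Factors L := fun X _ f =>
  ⟨L, f, 𝟙 L, isPerfect_of_isZero h, Category.comp_id f⟩

/-- Finitely many summands. -/
theorem factors_sigma {J : Type u} (X : J → Dual.D R) [HasCoproduct X]
    (hX : ∀ j, DRing.IsPerfect R (X j)) : Factors (∐ X) := fun Y hY f => by
  obtain ⟨s, hs⟩ := finFac_eq_sum (hY J X f)
  rw [hs]
  refine Finset.sum_induction _
    (fun g => ∃ (P : Dual.D R) (a : Y ⟶ P) (b : P ⟶ ∐ X), DRing.IsPerfect R P ∧ a ≫ b = g) ?_ ?_ ?_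
  · rintro _ _ ⟨P, a, b, hP, rfl⟩ ⟨P', a', b', hP', rfl⟩
    exact ⟨P ⊞ P', biprod.lift a a', biprod.desc b b', isPerfect_biprod hP hP', biprod.lift_desc ..⟩
  · exact ⟨_, 0, 0, isPerfect_of_isZero (isZero_zero _), comp_zero⟩
  · exact fun i _ => ⟨X i, f ≫ Sigma.π X i, Sigma.ι X i, hX i, rfl⟩

theorem factors_single (n : ℤ) (M : ModuleCat.{u} R) [Module.Free R M] :
    Factors ((single n).obj M) := by
  let J := Module.Free.ChooseBasisIndex R M
  let b := Module.Free.chooseBasis R M
  let G := HomologicalComplex.single (ModuleCat.{u} R) (ComplexShape.up ℤ) n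
  haveI := hasColimitsOfShape_small (R := R) (Equiv.refl J)
  haveI := preservesColimitsOfShape_Q (R := R) (Equiv.refl J)
  let c : Cofan fun _ : J => ModuleCat.of R R :=
    Cofan.mk M fun j => ModuleCat.ofHom (LinearMap.toSpanSingleton R M (b j))
  have hc : IsColimit c := Cofan.IsColimit.mk _
    (fun s => ModuleCat.ofHom (b.constr R fun j => (s.inj j) (1 : R)))
    (fun s j => by
      refine ModuleCat.hom_ext (LinearMap.ext_ring ?_)
      change b.constr R (fun j => (s.inj j) (1 : R)) ((1 : R) • b j) = _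
      rw [one_smul, b.constr_basis])
    (fun s m hm => by
      refine ModuleCat.hom_ext (b.ext fun j => ?_)
      rw [ModuleCat.hom_ofHom, b.constr_basis, ← hm j]
      exact congrArg m (one_smul R (b j)).symm)
  let h' := isColimitCofanMkObjOfIsColimit (G ⋙ DerivedCategory.Q) (f := fun _ : J => ModuleCat.of R R)
    (g := c.inj) hc
  refine factors_of_iso (((coproductIsCoproduct _).coconePointUniqueUpToIso h') ≪≫
    ((DerivedCategory.singleFunctorIsoCompQ (ModuleCat.{u} R) n).app M).symm)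
    (factors_sigma _ fun _ => ?_)
  refine isPerfect_of_iso (singleShiftIso n (ModuleCat.of R R) ≪≫
    (DerivedCategory.singleFunctorIsoCompQ (ModuleCat.{u} R) n).app _) (isPerfect_shift _ ?_)
  exact ⟨(HomologicalComplex.single (ModuleCat.{u} R) (ComplexShape.up ℤ) 0).obj (ModuleCat.of R R), 0, 0,
    fun i hi => isZero_single_X (by omega) _, fun i => by
      by_cases hi : i = 0
      · subst hi
        exact modClass_finiteProjective.equiv
          (HomologicalComplex.singleObjXSelf (ComplexShape.up ℤ) (0 : ℤ) (ModuleCat.of R R)).symm.toLinearEquiv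
          ⟨Module.Finite.self R, inferInstanceAs (Module.Projective R R)⟩
      · have := ModuleCat.subsingleton_of_isZero (isZero_single_X (n := 0) hi (ModuleCat.of R R))
        exact modClass_finiteProjective.subsingleton _,
    ⟨((DerivedCategory.singleFunctorIsoCompQ (ModuleCat.{u} R) 0).app _).symm⟩⟩

theorem factors_bounded_free (G : DRing.Cx R) (a b : ℤ) (hG : DRing.VanishesOutside G a b)
    (hfree : ∀ i, Module.Free R (G.X i)) : Factors (DRing.toD G) := by
  refine bounded_induction (Q := fun L => Factors (DRing.toD L)) (p := fun _ M => Module.Free R M)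
    (fun L hL => factors_isZero (DerivedCategory.Q.map_isZero ((IsZero.iff_id_eq_zero L).2 (by
      ext1 i; exact (hL i).eq_of_src _ _))))
    (fun L n hL hn => ?_) (fun L n h₁ h₂ => ?_) (fun n M N i hM => Module.Free.of_equiv i.toLinearEquiv)
    G a b hG (fun i _ _ => hfree i)
  · obtain ⟨e⟩ := exists_iso_single_X hL
    exact factors_of_iso e.symm (factors_single n (L.X n))
  · obtain ⟨t, hT⟩ := exists_sub_triangle L (geSub L n) (geSub_stable L n)
    exact factors_triangle₂ _ hT h₁ h₂

theorem isPerfect_of_fin {K : Dual.D R} (hK : SmallFin K) (hK' : CountFin K) :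
    DRing.IsPerfect R K := by
  let C := DerivedCategory.Q.objPreimage K
  let eC : DRing.toD C ≅ K := DerivedCategory.Q.objObjPreimageIso K
  have hmono : ∀ i, Monotone fun n : ℕ => leSub C (n : ℤ) i := fun i n m hnm => by
    change leSub C (n : ℤ) i ≤ leSub C (m : ℤ) i
    rcases lt_trichotomy i (m : ℤ) with h | h | h
    · rw [leSub_of_lt C h]; exact le_top
    · rcases eq_or_lt_of_le hnm with h' | h'
      · rw [h']
      · rw [leSub_of_gt C (n := (n : ℤ)) (by omega)]; exact bot_le
    · rw [leSub_of_gt C (n := (n : ℤ)) (by omega)]; exact bot_le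
  have hex : ∀ i (x : C.X i), ∃ n : ℕ, x ∈ leSub C (n : ℤ) i := fun i x =>
    ⟨i.toNat + 1, by rw [leSub_of_lt C (by omega)]; trivial⟩
  obtain ⟨hc⟩ := isColimit_subCocone C (fun n : ℕ => leSub C (n : ℤ)) (fun n => leSub_stable C n) hmono hex
  obtain ⟨n, y, hy⟩ := (hom_termwiseColimit hK' _ _ hc).1 eC.inv
  haveI : K.IsLE (n : ℤ) := by
    rw [DMod.isLE_iff]
    intro j hj
    have hy' : y ≫ DerivedCategory.Q.map (subι C (leSub C (n : ℤ)) (leSub_stable C n)) ≫ eC.hom = 𝟙 K := by
      refine (Category.assoc _ _ _).symm.trans ?_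
      exact (congrArg (· ≫ eC.hom) hy).trans eC.inv_hom_id
    have h0 : IsZero ((DerivedCategory.homologyFunctor (ModuleCat.{u} R) j).obj
        (DRing.toD (truncTo C (n : ℤ)))) := by
      haveI : (truncTo C (n : ℤ)).IsStrictlyLE (n : ℤ) :=
        (vanishesAbove_iff _ _).1 fun i hi => isZero_truncTo_X C hi
      exact DerivedCategory.isZero_of_isLE _ (n : ℤ) j hj
    refine ModuleCat.subsingleton_of_isZero ((IsZero.iff_id_eq_zero _).2 ?_)
    refine ((DerivedCategory.homologyFunctor (ModuleCat.{u} R) j).map_id K).symm.trans ?_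
    rw [← hy', Functor.map_comp]
    exact (congrArg (· ≫ _) (h0.eq_of_tgt _ 0)).trans zero_comp
  obtain ⟨F, hF, hfree, ⟨eF⟩⟩ := exists_free_resolution K (n : ℤ)
  have hmono' : ∀ i, Monotone fun m : ℕ => geSub F (-(m : ℤ)) i := fun i m m' h => by
    change geSub F (-(m : ℤ)) i ≤ geSub F (-(m' : ℤ)) i
    unfold geSub
    split_ifs with h1 h2
    · exact le_rfl
    · exfalso; omega
    · exact le_top
    · exact le_rfl
  have hex' : ∀ i (x : F.X i), ∃ m : ℕ, x ∈ geSub F (-(m : ℤ)) i := fun i x =>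
    ⟨(-i).toNat, by rw [geSub, if_pos (by omega)]; trivial⟩
  obtain ⟨hc'⟩ := isColimit_subCocone F (fun m : ℕ => geSub F (-(m : ℤ))) (fun m => geSub_stable F _)
    hmono' hex'
  obtain ⟨m, z, hz⟩ := (hom_termwiseColimit hK' _ _ hc').1 eF.inv
  have hv : DRing.VanishesOutside (sigmaGE F (-(m : ℤ))) (-(m : ℤ)) (n : ℤ) := by
    intro i hi
    by_cases h : i < -(m : ℤ)
    · exact (sigmaGE F (-(m : ℤ))).isZero_of_isStrictlyGE (-(m : ℤ)) i h
    · have := ModuleCat.subsingleton_of_isZero (F.isZero_of_isStrictlyLE (n : ℤ) i (by omega))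
      exact (isZero_iff_subsingleton _).2 (sigmaGEXEquiv F (-(m : ℤ)) i (by omega)).toEquiv.subsingleton
  have hfr : ∀ i, Module.Free R ((sigmaGE F (-(m : ℤ))).X i) := fun i => by
    by_cases h : -(m : ℤ) ≤ i
    · exact Module.Free.of_equiv (sigmaGEXEquiv F (-(m : ℤ)) i h).symm
    · have := ModuleCat.subsingleton_of_isZero
        ((sigmaGE F (-(m : ℤ))).isZero_of_isStrictlyGE (-(m : ℤ)) i (by omega))
      exact Module.Free.of_subsingleton R _
  obtain ⟨P, a, b, hP, hab⟩ := factors_bounded_free _ _ _ hv hfr K hK z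
  refine isPerfect_retract a (b ≫ DerivedCategory.Q.map (subι F _ (geSub_stable F _)) ≫ eF.hom) ?_ hP
  rw [reassoc_of% hab]
  refine (Category.assoc _ _ _).symm.trans ?_
  exact (congrArg (· ≫ eF.hom) hz).trans eF.inv_hom_id

end Groth.Agent.DCompact9
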