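import Groth.Agent.Lib.DPush.Compact
import Groth.Agent.Lib.Brown.Compact
import Groth.Agent.Lib.Hocolim29.Colimit

/-! Maps out of objects commuting with countable sums into sequential homotopy colimits. -/

set_option autoImplicit false
set_option linter.unusedSectionVars false
set_option linter.style.haveILetI false
set_option backward.isDefEq.respectTransparency false

universe w v u t

open CategoryTheory CategoryTheory.Limits CategoryTheory.Pretriangulated

namespace Groth.Agent.DCompact9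

open DPush
open scoped Classical

section Preadd

variable {D : Type u} [Category.{v} D] [Preadditive D]

/-- Bijectivity of the sum map gives finite support. -/
theorem finFac_of_surjective {K : D} {I : Type t} (X : I → D) [HasCoproduct X] {J : Type v}
    (e : J ≃ I) [HasCoproduct fun j : J => X (e j)]
    (h : Function.Surjective (CohDer.homSumToHomCoprod K fun j : J => X (e j))) (f : K ⟶ ∐ X) :
    FinFac X f := by
  let w : (∐ fun j : J => X (e j)) ⟶ ∐ X := Sigma.desc fun j => Sigma.ι X (e j)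
  let w' : ∐ X ⟶ ∐ fun j : J => X (e j) :=
    Sigma.desc fun i => eqToHom (by rw [e.apply_symm_apply]) ≫ Sigma.ι (fun j : J => X (e j)) (e.symm i)
  have hww : w' ≫ w = 𝟙 _ := Sigma.hom_ext _ _ fun i => by
    simp only [w', w, Sigma.ι_desc_assoc, Category.assoc, Sigma.ι_desc, Category.comp_id]
    generalize_proofs h1
    revert h1
    generalize hk : e (e.symm i) = k
    obtain rfl : k = i := hk.symm.trans (e.apply_symm_apply i)
    intro h1
    simp
  obtain ⟨x, hx⟩ := h (f ≫ w')
  obtain ⟨s, hs⟩ := Brown.exists_homSumToHomCoprod_eq_sum K _ x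
  refine ⟨s.map e.toEmbedding, ?_⟩
  have hf : f = ∑ j ∈ s, x j ≫ Sigma.ι X (e j) := by
    rw [← Category.comp_id f, ← hww, ← Category.assoc, ← hx, hs, Preadditive.sum_comp]
    exact Finset.sum_congr rfl fun j _ => by rw [Category.assoc, Sigma.ι_desc]
  rw [hf, Preadditive.sum_comp]
  refine Finset.sum_congr rfl fun j hj => ?_
  rw [Category.assoc, ι_finProj]
  simp [hj]

theorem finFac_eq_sum {K : D} {I : Type t} {X : I → D} [HasCoproduct X] {f : K ⟶ ∐ X}
    (h : FinFac X f) : ∃ s : Finset I, f = ∑ i ∈ s, (f ≫ Sigma.π X i) ≫ Sigma.ι X i := by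
  obtain ⟨s, hs⟩ := h
  refine ⟨s, ?_⟩
  conv_lhs => rw [← hs, finProj_eq_sum, Preadditive.comp_sum]
  exact Finset.sum_congr rfl fun i _ => (Category.assoc _ _ _).symm

/-- Finite support passes through an equivalence of the source. -/
theorem finFac_of_equivalence {D' : Type*} [Category* D'] [Preadditive D'] (G : D ⥤ D') [G.Additive]
    [G.Faithful] {K : D} {I : Type t} {X : I → D} [HasCoproduct X] [HasCoproduct fun i => G.obj (X i)]
    [IsIso (sigmaComparison G X)] (f : K ⟶ ∐ X)
    (h : ∀ g : G.obj K ⟶ ∐ fun i => G.obj (X i), FinFac _ g) : FinFac X f := by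
  obtain ⟨s, hs⟩ := h (G.map f ≫ inv (sigmaComparison G X))
  refine ⟨s, G.map_injective ?_⟩
  rw [← cancel_mono (inv (sigmaComparison G X))]
  refine Eq.trans ?_ hs
  rw [Functor.map_comp, Category.assoc, Category.assoc]
  refine congrArg (G.map f ≫ ·) ?_
  rw [IsIso.comp_inv_eq, Category.assoc, finProj_comparison, IsIso.inv_hom_id_assoc]

end Preadd

section Hocolim

variable {D : Type u} [Category.{v} D] [Preadditive D] [HasZeroObject D] [HasShift D ℤ]
  [∀ n : ℤ, (shiftFunctor D n).Additive] [Pretriangulated D]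

variable (F : ℕ ⥤ D) [HasCoproduct F.obj]

/-- The fold to a stage. -/
noncomputable def toStage (m : ℕ) : ∐ F.obj ⟶ F.obj m :=
  Sigma.desc fun i => if h : i ≤ m then F.map (homOfLE h) else 0

theorem ι_toStage {i m : ℕ} (h : i ≤ m) : Sigma.ι F.obj i ≫ toStage F m = F.map (homOfLE h) := by
  rw [toStage, Sigma.ι_desc, dif_pos h]

theorem sub_shift_toStage (m : ℕ) :
    (𝟙 (∐ F.obj) - DerLim.shiftMap F.obj fun n => F.map (homOfLE (Nat.le_succ n))) ≫ toStage F m =
      Sigma.π F.obj m := by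
  refine Sigma.hom_ext _ _ fun i => ?_
  rw [Preadditive.sub_comp, Category.id_comp, Preadditive.comp_sub, DerLim.shiftMap, Sigma.ι_desc_assoc,
    Category.assoc]
  rcases lt_trichotomy i m with h | h | h
  · rw [ι_toStage F h.le, ι_toStage F h, Sigma.ι_π_of_ne _ h.ne, ← F.map_comp]
    exact sub_self _
  · subst h
    rw [ι_toStage F le_rfl, toStage, Sigma.ι_desc, dif_neg (by omega), comp_zero, sub_zero,
      Sigma.ι_π_eq_id]
    exact F.map_id _
  · rw [toStage, Sigma.ι_desc, Sigma.ι_desc, dif_neg (by omega), dif_neg (by omega), comp_zero, sub_zero,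
      Sigma.ι_π_of_ne _ h.ne']

theorem hom_hocolim {L : D} {j : ∀ n, F.obj n ⟶ L}
    (hL : DerLim.IsHocolim F.obj (fun n => F.map (homOfLE (Nat.le_succ n))) L j)
    (K : D) (hK : ∀ f : K ⟶ ∐ F.obj, FinFac F.obj f)
    (hK' : ∀ f : K⟦(-1 : ℤ)⟧ ⟶ ∐ F.obj, FinFac F.obj f) :
    (∀ x : K ⟶ L, ∃ (n : ℕ) (y : K ⟶ F.obj n), y ≫ j n = x) ∧
      (∀ (n : ℕ) (y : K ⟶ F.obj n), y ≫ j n = 0 →
        ∃ (m : ℕ) (h : n ≤ m), y ≫ F.map (homOfLE h) = 0) := by
  obtain ⟨c, hT⟩ := hL
  refine ⟨fun x => ?_, fun n y hy => ?_⟩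
  · let f : ∐ F.obj ⟶ ∐ F.obj := 𝟙 _ - DerLim.shiftMap F.obj fun n => F.map (homOfLE (Nat.le_succ n))
    let e := shiftFunctorCompIsoId D (1 : ℤ) (-1) (add_neg_cancel 1)
    let z : K⟦(-1 : ℤ)⟧ ⟶ ∐ F.obj := (x ≫ c)⟦(-1 : ℤ)⟧' ≫ e.hom.app (∐ F.obj)
    have hcf : c ≫ f⟦(1 : ℤ)⟧' = 0 := comp_distTriang_mor_zero₃₁ _ hT
    have hnat : (f⟦(1 : ℤ)⟧')⟦(-1 : ℤ)⟧' ≫ e.hom.app (∐ F.obj) = e.hom.app (∐ F.obj) ≫ f :=
      e.hom.naturality f
    have hzf : z ≫ f = 0 := by
      simp only [z, Category.assoc]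
      rw [← hnat, ← Functor.map_comp_assoc, Category.assoc, hcf, comp_zero, Functor.map_zero, zero_comp]
    have hz : z = 0 := by
      obtain ⟨s, hs⟩ := finFac_eq_sum (hK' z)
      rw [hs]
      refine Finset.sum_eq_zero fun i _ => ?_
      have h1 : z ≫ Sigma.π F.obj i = 0 := by
        refine Eq.trans (congrArg (z ≫ ·) (sub_shift_toStage F i).symm) ?_
        refine (Category.assoc _ _ _).symm.trans ?_
        change (z ≫ f) ≫ _ = 0
        rw [hzf, zero_comp]
      refine Eq.trans ?_ ((congrArg (fun t => t ≫ Sigma.ι F.obj i) h1).trans zero_comp)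
      congr!
    have hxc : x ≫ c = 0 := (shiftFunctor D (-1 : ℤ)).map_injective (by
      rw [← cancel_mono (e.hom.app (∐ F.obj)), Functor.map_zero, zero_comp]
      exact hz)
    obtain ⟨g, hg⟩ : ∃ g : K ⟶ ∐ F.obj, x = g ≫ Sigma.desc j := Triangle.coyoneda_exact₃ _ hT x hxc
    obtain ⟨s, hs⟩ := finFac_eq_sum (hK g)
    refine ⟨s.sup id, g ≫ finProj F.obj s ≫ toStage F (s.sup id), ?_⟩
    have hj : ∀ i m (h : i ≤ m), F.map (homOfLE h) ≫ j m = j i := by
      have h0 : f ≫ Sigma.desc j = 0 := comp_distTriang_mor_zero₁₂ _ hT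
      have hs' : ∀ i, F.map (homOfLE (Nat.le_succ i)) ≫ j (i + 1) = j i := fun i => by
        have h1 := congrArg (fun t => Sigma.ι F.obj i ≫ t) h0
        simp [f, DerLim.shiftMap, Preadditive.sub_comp, Preadditive.comp_sub, sub_eq_zero] at h1
        exact h1.symm
      intro i m h
      induction m, h using Nat.le_induction with
      | base => exact (congrArg (· ≫ j i) (F.map_id i)).trans (Category.id_comp _)
      | succ m h ih =>
        rw [← ih, ← hs' m, ← Category.assoc, ← F.map_comp]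
        rfl
    rw [hg, hs]
    simp only [Category.assoc, Preadditive.sum_comp, Sigma.ι_desc]
    refine Finset.sum_congr rfl fun i hi => ?_
    have hi' : i ≤ s.sup id := Finset.le_sup (f := id) hi
    rw [reassoc_of% (ι_finProj F.obj s i), if_pos hi,
      reassoc_of% (ι_toStage F hi'), hj]
  · obtain ⟨z, hz⟩ : ∃ z : K ⟶ ∐ F.obj, y ≫ Sigma.ι F.obj n =
        z ≫ (𝟙 _ - DerLim.shiftMap F.obj fun n => F.map (homOfLE (Nat.le_succ n))) :=
      Triangle.coyoneda_exact₂ _ hT (y ≫ Sigma.ι F.obj n) (by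
        change (y ≫ Sigma.ι F.obj n) ≫ Sigma.desc j = 0
        rw [Category.assoc, Sigma.ι_desc, hy])
    obtain ⟨s, hs⟩ := hK z
    let m := max n (s.sup id + 1)
    refine ⟨m, le_max_left _ _, ?_⟩
    have hm : finProj F.obj s ≫ Sigma.π F.obj m = 0 := Sigma.hom_ext _ _ fun i => by
      rw [reassoc_of% (ι_finProj F.obj s i), comp_zero]
      split_ifs with hi
      · have : i ≤ s.sup id := Finset.le_sup (f := id) hi
        rw [Sigma.ι_π_of_ne _ (by omega)]
      · rw [zero_comp]
    have := congrArg (· ≫ toStage F m) hz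
    simp only [Category.assoc, sub_shift_toStage] at this
    rw [ι_toStage F (show n ≤ m from le_max_left n _)] at this
    rw [this, ← hs, Category.assoc, hm, comp_zero]

end Hocolim

end Groth.Agent.DCompact9
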